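import Groth.Agent.Neron.K491.PDefs
import Mathlib.RingTheory.DiscreteValuationRing.Basic
import Mathlib.Algebra.CharP.Frobenius

/-!
# Systems of additive polynomials: values, substitution, reduction of the principal part
-/

set_option autoImplicit false

open K491.PDefs

namespace K127.AddPoly

section values

variable {K : Type*} [Field K] (p : ℕ)

/-- The value of an additive polynomial. -/
noncomputable def val (y : K) : (ℕ →₀ K) →+ K :=
  Finsupp.liftAddHom fun k => AddMonoidHom.mulRight (y ^ p ^ k)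

lemma val_apply (y : K) (φ : ℕ →₀ K) : val p y φ = φ.sum fun k a => a * y ^ p ^ k := by
  simp [val, Finsupp.liftAddHom_apply]

@[simp] lemma val_single (y : K) (k : ℕ) (a : K) : val p y (Finsupp.single k a) = a * y ^ p ^ k := by
  rw [val_apply, Finsupp.sum_single_index (zero_mul _)]

lemma addVal_eq {m n : ℕ} (F : Fin m → Fin n → (ℕ →₀ K)) (j : Fin m) (y : Fin n → K) :
    addVal p (RingHom.id K) F j y = ∑ l, val p (y l) (F j l) := by
  simp only [addVal, val_apply, RingHom.id_apply]

variable [Fact p.Prime] [CharP K p]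

omit [CharP K p] in
lemma val_zero (φ : ℕ →₀ K) : val p 0 φ = 0 := by
  rw [val_apply]
  refine Finset.sum_eq_zero fun k _ => ?_
  change φ k * 0 ^ p ^ k = 0
  rw [zero_pow (pow_ne_zero _ (Fact.out : p.Prime).ne_zero), mul_zero]

lemma val_add_arg (y z : K) (φ : ℕ →₀ K) : val p (y + z) φ = val p y φ + val p z φ := by
  simp only [val_apply, Finsupp.sum, add_pow_char_pow, mul_add, Finset.sum_add_distrib]

/-- The additive polynomial `φ (t y ^ (p ^ e))`. -/
noncomputable def tw (e : ℕ) (t : K) (φ : ℕ →₀ K) : ℕ →₀ K :=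
  φ.sum fun k a => Finsupp.single (k + e) (a * t ^ p ^ k)

omit [Fact p.Prime] [CharP K p] in
lemma val_tw (e : ℕ) (t y : K) (φ : ℕ →₀ K) : val p y (tw p e t φ) = val p (t * y ^ p ^ e) φ := by
  rw [tw, map_finsuppSum, val_apply]
  refine Finset.sum_congr rfl fun k _ => ?_
  change val p y (Finsupp.single (k + e) (φ k * t ^ p ^ k)) = φ k * (t * y ^ p ^ e) ^ p ^ k
  rw [val_single, mul_pow, ← pow_mul, ← pow_add, add_comm e k, mul_assoc]

omit [Fact p.Prime] [CharP K p] in
lemma tw_apply (e : ℕ) (t : K) (φ : ℕ →₀ K) (k : ℕ) :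
    tw p e t φ k = if e ≤ k then φ (k - e) * t ^ p ^ (k - e) else 0 := by
  rw [tw, Finsupp.sum_apply]
  split_ifs with h
  · rw [Finsupp.sum, Finset.sum_eq_single (k - e)]
    · rw [Nat.sub_add_cancel h, Finsupp.single_eq_same]
    · intro b _ hb
      rw [Finsupp.single_eq_of_ne (by omega)]
    · intro hn
      rw [Finsupp.notMem_support_iff.mp hn, zero_mul, Finsupp.single_zero, Finsupp.coe_zero, Pi.zero_apply]
  · refine Finset.sum_eq_zero fun b _ => ?_
    change (Finsupp.single (b + e) (φ b * t ^ p ^ b)) k = 0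
    rw [Finsupp.single_eq_of_ne (by omega)]

/-- The additive polynomial `c φ(y) ^ (p ^ e)`. -/
noncomputable def cmp (e : ℕ) (c : K) (φ : ℕ →₀ K) : ℕ →₀ K :=
  φ.sum fun k a => Finsupp.single (k + e) (c * a ^ p ^ e)

lemma val_cmp (e : ℕ) (c y : K) (φ : ℕ →₀ K) : val p y (cmp p e c φ) = c * val p y φ ^ p ^ e := by
  rw [cmp, map_finsuppSum, val_apply, Finsupp.sum, Finsupp.sum, sum_pow_char_pow, Finset.mul_sum]
  refine Finset.sum_congr rfl fun k _ => ?_
  change val p y (Finsupp.single (k + e) (c * φ k ^ p ^ e)) = c * (φ k * y ^ p ^ k) ^ p ^ e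
  rw [val_single, mul_pow, ← pow_mul, ← pow_add, mul_assoc]

omit [Fact p.Prime] [CharP K p] in
lemma cmp_zero (e : ℕ) (c : K) : cmp p e c 0 = 0 := Finsupp.sum_zero_index

omit [Fact p.Prime] [CharP K p] in
lemma cmp_zero_left (c : K) (φ : ℕ →₀ K) : cmp p 0 c φ = c • φ := by
  ext k
  rw [cmp, Finsupp.sum_apply, Finsupp.sum, Finset.sum_eq_single k]
  · rw [pow_zero, pow_one, add_zero, Finsupp.single_eq_same, Finsupp.smul_apply, smul_eq_mul]
  · intro b _ hb
    rw [Finsupp.single_eq_of_ne (by omega)]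
  · intro hn
    rw [Finsupp.notMem_support_iff.mp hn, pow_zero, pow_one, mul_zero, Finsupp.single_zero, Finsupp.coe_zero,
      Pi.zero_apply]

end values

section subst

variable {K : Type*} [Field K] (p : ℕ) {m n : ℕ}

/-- The vanishing on all lines: every solution in additive polynomials of one variable is zero. -/
def NoLine (F : Fin m → Fin n → (ℕ →₀ K)) : Prop :=
  ∀ φ : Fin n → (ℕ →₀ K), (∀ (j : Fin m) (t : K), ∑ l, val p (val p t (φ l)) (F j l) = 0) → φ = 0

/-- The substitution `x_l = y_l + t_l y_i ^ (p ^ e_l)` (`l ≠ i`), `x_i = t_i y_i ^ (p ^ e_i)`. -/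
noncomputable def sub (i : Fin n) (e : Fin n → ℕ) (t : Fin n → K) (y : Fin n → K) (l : Fin n) : K :=
  (if l = i then 0 else y l) + t l * y i ^ p ^ e l

/-- The system after the substitution. -/
noncomputable def subF (i : Fin n) (e : Fin n → ℕ) (t : Fin n → K) (F : Fin m → Fin n → (ℕ →₀ K)) (j : Fin m) :
    Fin n → (ℕ →₀ K) :=
  Function.update (F j) i (∑ l, tw p (e l) (t l) (F j l))

variable [Fact p.Prime] [CharP K p]

lemma sum_subF (i : Fin n) (e : Fin n → ℕ) (t : Fin n → K) (F : Fin m → Fin n → (ℕ →₀ K)) (j : Fin m)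
    (y : Fin n → K) : ∑ l, val p (y l) (subF p i e t F j l) = ∑ l, val p (sub p i e t y l) (F j l) := by
  have h1 : ∀ l, val p (sub p i e t y l) (F j l) =
      (if l = i then 0 else val p (y l) (F j l)) + val p (y i) (tw p (e l) (t l) (F j l)) := by
    intro l
    rw [sub, val_add_arg, val_tw]
    split_ifs
    · rw [val_zero]
    · rfl
  simp only [h1, Finset.sum_add_distrib]
  rw [← map_sum]
  have h2 : ∀ l, val p (y l) (subF p i e t F j l) =
      (if l = i then 0 else val p (y l) (F j l)) +
        (if l = i then val p (y i) (∑ l, tw p (e l) (t l) (F j l)) else 0) := by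
    intro l
    rw [subF]
    split_ifs with h
    · subst h
      rw [Function.update_self, zero_add]
    · rw [Function.update_of_ne h, add_zero]
  simp only [h2, Finset.sum_add_distrib]
  congr 1
  rw [Finset.sum_ite_eq' Finset.univ i, if_pos (Finset.mem_univ _)]

lemma noLine_subF (i : Fin n) (e : Fin n → ℕ) (t : Fin n → K) (he : e i = 0) (ht : t i ≠ 0)
    (F : Fin m → Fin n → (ℕ →₀ K)) (hF : NoLine p F) : NoLine p (subF p i e t F) := by
  intro φ hφ
  let ψ : Fin n → (ℕ →₀ K) := fun l => (if l = i then 0 else φ l) + cmp p (e l) (t l) (φ i)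
  have hψ : ψ = 0 := hF ψ fun j s => by
    have h := hφ j s
    rw [sum_subF] at h
    rw [← h]
    refine Finset.sum_congr rfl fun l _ => ?_
    refine congrArg (fun z => val p z (F j l)) ?_
    change val p s ((if l = i then 0 else φ l) + cmp p (e l) (t l) (φ i)) =
      (if l = i then 0 else val p s (φ l)) + t l * val p s (φ i) ^ p ^ e l
    rw [map_add, val_cmp]
    split_ifs
    · rw [map_zero]
    · rfl
  have hi : φ i = 0 := by
    have h : ψ i = 0 := congrFun hψ i
    change (if i = i then 0 else φ i) + cmp p (e i) (t i) (φ i) = 0 at h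
    rw [if_pos rfl, zero_add, he, cmp_zero_left] at h
    exact (smul_eq_zero.mp h).resolve_left ht
  funext l
  by_cases hl : l = i
  · rw [hl, hi]; rfl
  · have h : ψ l = 0 := congrFun hψ l
    change (if l = i then 0 else φ l) + cmp p (e l) (t l) (φ i) = 0 at h
    rw [if_neg hl, hi, cmp_zero, add_zero] at h
    exact h

omit [Fact p.Prime] [CharP K p] in
/-- The degree in the variable `i` drops. -/
lemma subF_apply_eq_zero (hp : 0 < p) (i : Fin n) (d : Fin n → ℕ) (t : Fin n → K) (hdi : ∀ l, t l ≠ 0 → d l ≤ d i)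
    (F : Fin m → Fin n → (ℕ →₀ K)) (hd : ∀ j l k, d l < k → F j l k = 0)
    (h0 : ∀ j, ∑ l, F j l (d l) * t l ^ p ^ d l = 0) (j : Fin m) (k : ℕ) (hk : d i ≤ k) :
    subF p i (fun l => d i - d l) t F j i k = 0 := by
  rw [subF, Function.update_self, Finsupp.finsetSum_apply]
  have h1 : ∀ l, tw p (d i - d l) (t l) (F j l) k = if d i = k then F j l (d l) * t l ^ p ^ d l else 0 := by
    intro l
    rw [tw_apply, if_pos (by omega)]
    by_cases ht : t l = 0
    · rw [ht, zero_pow (pow_pos hp _).ne', zero_pow (pow_pos hp _).ne', mul_zero, mul_zero, ite_self]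
    · have := hdi l ht
      split_ifs with hki
      · subst hki
        rw [show d i - (d i - d l) = d l by omega]
      · rw [hd j l _ (by omega), zero_mul]
  simp only [h1]
  by_cases hki : d i = k
  · simp only [if_pos hki, h0]
  · simp only [if_neg hki, Finset.sum_const_zero]

end subst

end K127.AddPoly
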