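import Groth.Agent.Neron.K127.AddPoly
import Groth.Agent.Neron.K949.GreMain

/-!
# Bounded values of an additive polynomial system without lines come from bounded vectors

Tits' reduction to an anisotropic principal part, then Greenberg's theorem (`K949.Gre.exists_hom`).
-/

set_option autoImplicit false
universe u

open K491.PDefs K127.AddPoly IsLocalRing

namespace K127.PAna

section bd

variable {R K : Type*} [CommRing R] [Field K] [Algebra R K]

/-- `π ^ M x` is integral. -/
def Bd (π : R) (M : ℕ) (x : K) : Prop := algebraMap R K (π ^ M) * x ∈ Set.range (algebraMap R K)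

variable {π : R} {M M' : ℕ} {x y : K}

lemma Bd.mono (h : Bd π M x) (hM : M ≤ M') : Bd π M' x := by
  obtain ⟨r, hr⟩ := h
  refine ⟨π ^ (M' - M) * r, ?_⟩
  rw [map_mul, hr, ← mul_assoc, ← map_mul, ← pow_add, Nat.sub_add_cancel hM]

lemma Bd.zero : Bd π M (0 : K) := ⟨0, by rw [map_zero, mul_zero]⟩

lemma Bd.add (h : Bd π M x) (h' : Bd π M y) : Bd π M (x + y) := by
  obtain ⟨r, hr⟩ := h
  obtain ⟨s, hs⟩ := h'
  exact ⟨r + s, by rw [map_add, hr, hs, mul_add]⟩

lemma Bd.mul (h : Bd π M x) (h' : Bd π M' y) : Bd π (M + M') (x * y) := by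
  obtain ⟨r, hr⟩ := h
  obtain ⟨s, hs⟩ := h'
  refine ⟨r * s, ?_⟩
  rw [map_mul, hr, hs, pow_add, map_mul]
  ring

lemma Bd.pow (h : Bd π M x) (k : ℕ) : Bd π (M * k) (x ^ k) := by
  obtain ⟨r, hr⟩ := h
  refine ⟨r ^ k, ?_⟩
  rw [map_pow, hr, mul_pow, ← map_pow, ← pow_mul]

lemma exists_bd [IsDomain R] [IsDiscreteValuationRing R] [IsFractionRing R K] (hπ : Irreducible π) (x : K) :
    ∃ M, Bd π M x := by
  obtain ⟨a, b, hb, rfl⟩ := IsFractionRing.div_surjective (A := R) x
  have hb0 : b ≠ 0 := nonZeroDivisors.ne_zero hb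
  obtain ⟨v, u, rfl⟩ := IsDiscreteValuationRing.eq_unit_mul_pow_irreducible hb0 hπ
  refine ⟨v, a * (u⁻¹ : Rˣ), ?_⟩
  have h1 : algebraMap R K (u : R) ≠ 0 := fun h => u.ne_zero ((IsFractionRing.injective R K) (by rw [h, map_zero]))
  have h2 : algebraMap R K π ≠ 0 := fun h => hπ.ne_zero ((IsFractionRing.injective R K) (by rw [h, map_zero]))
  have h3 : algebraMap R K ((u⁻¹ : Rˣ) : R) = (algebraMap R K (u : R))⁻¹ := by
    refine eq_inv_of_mul_eq_one_left ?_
    rw [← map_mul, Units.inv_mul, map_one]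
  rw [map_mul, map_mul, map_pow, h3]
  field_simp

end bd

section gre

variable {R : Type u} [CommRing R] [IsDomain R] [IsDiscreteValuationRing R] [HenselianLocalRing R]

/-- Consequence of Greenberg's theorem for an anisotropic system. -/
lemma gre (hR : CAlg.IsGRing R) {π : R} (hπ : Irreducible π) (p : ℕ) {m n : ℕ} (c : Fin m → Fin n → R)
    (d : Fin n → ℕ) (an : ∀ t : Fin n → R, (∀ j, ∑ l, c j l * t l ^ p ^ d l = 0) → t = 0) (i : Fin n) (w : ℕ) :
    ∃ N, ∀ (t : Fin n → R) (s : R), t i * s = π ^ w → ∃ j, ¬ π ^ N ∣ ∑ l, c j l * t l ^ p ^ d l := by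
  by_contra hcon
  push Not at hcon
  let P : Fin m → MvPolynomial (Option (Fin n)) R := fun j =>
    ∑ l, MvPolynomial.C (c j l) * MvPolynomial.X (some l) ^ p ^ d l
  let Q : MvPolynomial (Option (Fin n)) R := MvPolynomial.X (some i) * MvPolynomial.X none - MvPolynomial.C (π ^ w)
  let I : Ideal (MvPolynomial (Option (Fin n)) R) := Ideal.span (Set.range P ∪ {Q})
  obtain ⟨g⟩ := K949.Gre.exists_hom hR (MvPolynomial (Option (Fin n)) R ⧸ I) (fun N => by
    obtain ⟨t, s, hts, h⟩ := hcon N
    let v : Option (Fin n) → R := fun o => o.elim s t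
    let f : MvPolynomial (Option (Fin n)) R →ₐ[R] R ⧸ maximalIdeal R ^ N :=
      (Ideal.Quotient.mkₐ R (maximalIdeal R ^ N)).comp (MvPolynomial.aeval v)
    have hf : I ≤ RingHom.ker f.toRingHom := by
      rw [Ideal.span_le]
      rintro _ (⟨j, rfl⟩ | rfl)
      · change Ideal.Quotient.mk (maximalIdeal R ^ N) (MvPolynomial.aeval v (P j)) = 0
        rw [Ideal.Quotient.eq_zero_iff_mem, hπ.maximalIdeal_eq, Ideal.span_singleton_pow, Ideal.mem_span_singleton]
        have : MvPolynomial.aeval v (P j) = ∑ l, c j l * t l ^ p ^ d l := by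
          simp [P, v]
        rw [this]
        exact h j
      · change Ideal.Quotient.mk (maximalIdeal R ^ N) (MvPolynomial.aeval v Q) = 0
        have : MvPolynomial.aeval v Q = 0 := by
          simp only [Q, v, map_sub, map_mul, MvPolynomial.aeval_X, Option.elim_some, Option.elim_none,
            MvPolynomial.aeval_C, Algebra.algebraMap_self, RingHom.id_apply, hts, sub_self]
        rw [this, map_zero]
    exact ⟨Ideal.Quotient.liftₐ I f fun a ha => hf ha⟩)
  let t : Fin n → R := fun l => g (Ideal.Quotient.mk I (MvPolynomial.X (some l)))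
  have ht : t = 0 := an t fun j => by
    have h0 : Ideal.Quotient.mk I (P j) = 0 :=
      Ideal.Quotient.eq_zero_iff_mem.mpr (Ideal.subset_span (Or.inl ⟨j, rfl⟩))
    have h1 : g (Ideal.Quotient.mk I (P j)) = ∑ l, c j l * t l ^ p ^ d l := by
      simp only [P, map_sum, map_mul, map_pow]
      refine Finset.sum_congr rfl fun l _ => ?_
      congr 1
      exact g.commutes (c j l)
    rw [← h1, h0, map_zero]
  have h0 : Ideal.Quotient.mk I Q = 0 := Ideal.Quotient.eq_zero_iff_mem.mpr (Ideal.subset_span (Or.inr rfl))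
  have h1 : g (Ideal.Quotient.mk I Q) = t i * g (Ideal.Quotient.mk I (MvPolynomial.X none)) - π ^ w := by
    simp only [Q, map_sub, map_mul]
    congr 1
    exact g.commutes (π ^ w)
  rw [h0, map_zero, ht, Pi.zero_apply, zero_mul, zero_sub, eq_comm, neg_eq_zero] at h1
  exact pow_ne_zero _ hπ.ne_zero h1

end gre

section main

variable {R : Type u} {K : Type u} [CommRing R] [IsDomain R] [IsDiscreteValuationRing R] [HenselianLocalRing R]
  [Field K] [Algebra R K] [IsFractionRing R K] {p : ℕ} [Fact p.Prime] [CharP K p] {π : R} {m n : ℕ}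

omit [IsDomain R] [IsDiscreteValuationRing R] [HenselianLocalRing R] [IsFractionRing R K] [CharP K p] in
lemma exists_coef (F : Fin m → Fin n → (ℕ →₀ K)) (h : ∀ x : K, ∃ M, Bd π M x) :
    ∃ E, ∀ j l k, Bd π E (F j l k) := by
  choose e he using fun j l k => h (F j l k)
  refine ⟨∑ j, ∑ l, ∑ k ∈ (F j l).support, e j l k, fun j l k => ?_⟩
  by_cases hk : k ∈ (F j l).support
  · refine (he j l k).mono ?_
    calc e j l k ≤ ∑ k ∈ (F j l).support, e j l k :=
          Finset.single_le_sum (f := fun k => e j l k) (fun _ _ => Nat.zero_le _) hk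
      _ ≤ ∑ l, ∑ k ∈ (F j l).support, e j l k :=
          Finset.single_le_sum (f := fun l => ∑ k ∈ (F j l).support, e j l k) (fun _ _ => Nat.zero_le _)
            (Finset.mem_univ l)
      _ ≤ _ :=
          Finset.single_le_sum (f := fun j => ∑ l, ∑ k ∈ (F j l).support, e j l k) (fun _ _ => Nat.zero_le _)
            (Finset.mem_univ j)
  · rw [Finsupp.notMem_support_iff.mp hk]
    exact Bd.zero

/-- The anisotropic case. -/
lemma bounded_aniso (hR : CAlg.IsGRing R) (hπ : Irreducible π) (F : Fin m → Fin n → (ℕ →₀ K)) (d : Fin n → ℕ)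
    (hd : ∀ j l k, d l < k → F j l k = 0)
    (an : ∀ t : Fin n → K, (∀ j, ∑ l, F j l (d l) * t l ^ p ^ d l = 0) → t = 0) (M : ℕ) :
    ∃ M' : ℕ, ∀ y : Fin n → K, (∀ j, Bd π M (∑ l, val p (y l) (F j l))) → ∀ l, Bd π M' (y l) := by
  have hp : 0 < p := (Fact.out : p.Prime).pos
  have hinj : Function.Injective (algebraMap R K) := IsFractionRing.injective R K
  have hπK : ∀ e : ℕ, algebraMap R K (π ^ e) ≠ 0 := fun e h =>
    pow_ne_zero e hπ.ne_zero (hinj (by rw [h, map_zero]))
  obtain ⟨E, hE⟩ := exists_coef F (exists_bd hπ)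
  choose b hb using hE
  set D : ℕ := ∑ l, d l with hD
  have hdD : ∀ l, d l ≤ D := fun l => Finset.single_le_sum (f := d) (fun _ _ => Nat.zero_le _) (Finset.mem_univ l)
  let w : Fin n → ℕ := fun l => p ^ (D - d l)
  have hw : ∀ l, 1 ≤ w l := fun l => Nat.one_le_pow _ _ hp
  have hwD : ∀ l, w l ≤ p ^ D := fun l => Nat.pow_le_pow_right hp (Nat.sub_le _ _)
  have anR : ∀ t : Fin n → R, (∀ j, ∑ l, b j l (d l) * t l ^ p ^ d l = 0) → t = 0 := by
    intro t ht
    have h1 : (fun l => algebraMap R K (t l)) = 0 := an _ fun j => by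
      have h2 := congrArg (algebraMap R K) (ht j)
      rw [map_sum, map_zero] at h2
      have h3 : algebraMap R K (π ^ E) * ∑ l, F j l (d l) * algebraMap R K (t l) ^ p ^ d l = 0 := by
        rw [← h2, Finset.mul_sum]
        refine Finset.sum_congr rfl fun l _ => ?_
        rw [map_mul, map_pow (algebraMap R K) (t l), hb, mul_assoc]
      exact (mul_eq_zero.mp h3).resolve_left (hπK E)
    funext l
    exact hinj ((congrFun h1 l).trans (map_zero _).symm)
  choose N hN using fun i => gre hR hπ p (fun j l => b j l (d l)) d anR i (w i - 1)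
  set N₀ : ℕ := ∑ i, N i with hN₀
  have hNle : ∀ i, N i ≤ N₀ := fun i =>
    Finset.single_le_sum (f := N) (fun _ _ => Nat.zero_le _) (Finset.mem_univ i)
  refine ⟨(M + N₀) * p ^ D, fun y hy => ?_⟩
  have hex : ∃ r, ∀ l, Bd π (r * w l) (y l) := by
    choose e he using fun l => exists_bd (R := R) hπ (y l)
    refine ⟨∑ l, e l, fun l => (he l).mono ?_⟩
    calc e l ≤ ∑ l, e l := Finset.single_le_sum (f := e) (fun _ _ => Nat.zero_le _) (Finset.mem_univ l)
      _ ≤ (∑ l, e l) * w l := Nat.le_mul_of_pos_right _ (hw l)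
  classical
  set r := Nat.find hex with hr
  have hrb : ∀ l, Bd π (r * w l) (y l) := Nat.find_spec hex
  by_cases hrM : r ≤ M + N₀
  · intro l
    exact (hrb l).mono (Nat.mul_le_mul hrM (hwD l))
  · exfalso
    have hr0 : 0 < r := by omega
    have hmin := Nat.find_min hex (m := r - 1) (by omega)
    push Not at hmin
    obtain ⟨i, hi⟩ := hmin
    choose t ht using hrb
    have hnd : ¬ π ^ w i ∣ t i := by
      rintro ⟨z, hz⟩
      refine hi ⟨z, ?_⟩
      have h1 := ht i
      rw [hz, map_mul] at h1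
      have h2 : r * w i = w i + (r - 1) * w i := by
        obtain ⟨r', hr'⟩ := Nat.exists_eq_succ_of_ne_zero hr0.ne'
        rw [hr', Nat.succ_sub_one, Nat.succ_mul, add_comm]
      rw [h2, pow_add, map_mul, mul_assoc] at h1
      exact mul_left_cancel₀ (hπK (w i)) h1
    have hti : t i ≠ 0 := fun h => hnd (h ▸ dvd_zero _)
    obtain ⟨v, a, hva⟩ := IsDiscreteValuationRing.eq_unit_mul_pow_irreducible hti hπ
    have hvw : v < w i := by
      by_contra hcon
      exact hnd (hva ▸ (dvd_mul_of_dvd_right (pow_dvd_pow π (not_lt.mp hcon)) _))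
    obtain ⟨j, hj⟩ := hN i t ((a⁻¹ : Rˣ) * π ^ (w i - 1 - v)) (by
      rw [hva]
      calc (a : R) * π ^ v * ((a⁻¹ : Rˣ) * π ^ (w i - 1 - v))
          = ((a : R) * (a⁻¹ : Rˣ)) * (π ^ v * π ^ (w i - 1 - v)) := by ring
        _ = π ^ (w i - 1) := by
          rw [Units.mul_inv, one_mul, ← pow_add]
          congr 1
          omega)
    apply hj
    refine dvd_trans (pow_dvd_pow π (hNle i)) ?_
    obtain ⟨z, hz⟩ := hy j
    have hrD : r ≤ r * p ^ D := Nat.le_mul_of_pos_right _ (pow_pos hp _)
    have key : π ^ (E + (r * p ^ D - M)) * z =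
        ∑ l, (∑ k ∈ Finset.range (d l), b j l k * π ^ (r * (p ^ D - p ^ (D - d l + k))) * t l ^ p ^ k +
          b j l (d l) * t l ^ p ^ d l) := by
      apply hinj
      have hterm : ∀ l k, k ≤ d l → algebraMap R K (b j l k * π ^ (r * (p ^ D - p ^ (D - d l + k))) * t l ^ p ^ k) =
          algebraMap R K (π ^ E) * algebraMap R K (π ^ (r * p ^ D)) * (F j l k * y l ^ p ^ k) := by
        intro l k hk
        have h1 : p ^ (D - d l + k) ≤ p ^ D := Nat.pow_le_pow_right hp (by have := hdD l; omega)
        rw [map_mul, map_mul, hb, map_pow _ (t l), ht, mul_pow, ← map_pow, ← pow_mul]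
        have h2 : r * w l * p ^ k = r * p ^ (D - d l + k) := by
          change r * p ^ (D - d l) * p ^ k = _
          rw [mul_assoc, ← pow_add]
        have h3 : algebraMap R K (π ^ (r * p ^ D)) =
            algebraMap R K (π ^ (r * (p ^ D - p ^ (D - d l + k)))) * algebraMap R K (π ^ (r * w l * p ^ k)) := by
          rw [← map_mul, ← pow_add, h2, ← mul_add, Nat.sub_add_cancel h1]
        rw [h3]
        ring
      have hval : ∀ l, val p (y l) (F j l) =
          ∑ k ∈ Finset.range (d l), F j l k * y l ^ p ^ k + F j l (d l) * y l ^ p ^ d l := by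
        intro l
        rw [val_apply, ← Finset.sum_range_succ (fun k => F j l k * y l ^ p ^ k)]
        refine Finsupp.sum_of_support_subset _ (fun k hk => ?_) _ (fun _ _ => zero_mul _)
        rw [Finset.mem_range]
        by_contra hcon
        exact (Finsupp.mem_support_iff.mp hk) (hd j l k (by omega))
      rw [map_sum]
      have hl : ∀ l, algebraMap R K (∑ k ∈ Finset.range (d l),
            b j l k * π ^ (r * (p ^ D - p ^ (D - d l + k))) * t l ^ p ^ k + b j l (d l) * t l ^ p ^ d l) =
          algebraMap R K (π ^ E) * algebraMap R K (π ^ (r * p ^ D)) * val p (y l) (F j l) := by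
        intro l
        rw [map_add, map_sum, hval, mul_add, Finset.mul_sum]
        congr 1
        · exact Finset.sum_congr rfl fun k hk => hterm l k (Finset.mem_range.mp hk).le
        · have h := hterm l (d l) le_rfl
          rwa [Nat.sub_add_cancel (hdD l), Nat.sub_self, mul_zero, pow_zero, mul_one] at h
      simp only [hl]
      rw [← Finset.mul_sum, map_mul, hz, ← mul_assoc, ← map_mul, ← map_mul, ← pow_add, ← pow_add]
      congr 3
      omega
    rw [Finset.sum_add_distrib] at key
    have h1 : π ^ N₀ ∣ ∑ l, ∑ k ∈ Finset.range (d l), b j l k * π ^ (r * (p ^ D - p ^ (D - d l + k))) * t l ^ p ^ k := by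
      refine Finset.dvd_sum fun l _ => Finset.dvd_sum fun k hk => ?_
      refine dvd_mul_of_dvd_left (dvd_mul_of_dvd_right (pow_dvd_pow π ?_) _) _
      have hk' := Finset.mem_range.mp hk
      have h2 : p ^ (D - d l + k) < p ^ D :=
        Nat.pow_lt_pow_right (Fact.out : p.Prime).one_lt (by have := hdD l; omega)
      calc N₀ ≤ r := by omega
        _ ≤ r * (p ^ D - p ^ (D - d l + k)) := Nat.le_mul_of_pos_right _ (by omega)
    have h2 : π ^ N₀ ∣ π ^ (E + (r * p ^ D - M)) * z := dvd_mul_of_dvd_left (pow_dvd_pow π (by omega)) _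
    rw [key] at h2
    exact (dvd_add_right h1).mp h2

/-- The general case, by induction on the degrees. -/
theorem bounded (hR : CAlg.IsGRing R) (hπ : Irreducible π) (s : ℕ) :
    ∀ (F : Fin m → Fin n → (ℕ →₀ K)) (d : Fin n → ℕ) (_ : ∑ l, d l = s)
      (_ : ∀ j l k, d l < k → F j l k = 0) (_ : NoLine p F) (M : ℕ),
    ∃ M' : ℕ, ∀ y : Fin n → K, (∀ j, Bd π M (∑ l, val p (y l) (F j l))) → ∀ l, Bd π M' (y l) := by
  have hp : 0 < p := (Fact.out : p.Prime).pos
  induction s using Nat.strong_induction_on with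
  | _ s ih =>
  intro F d hs hd hF M
  by_cases an : ∀ t : Fin n → K, (∀ j, ∑ l, F j l (d l) * t l ^ p ^ d l = 0) → t = 0
  · exact bounded_aniso hR hπ F d hd an M
  push Not at an
  obtain ⟨t, h0, ht⟩ := an
  obtain ⟨i₀, hi₀⟩ : ∃ i, t i ≠ 0 := by
    by_contra hcon
    push Not at hcon
    exact ht (funext hcon)
  classical
  obtain ⟨i, hi, hmax⟩ := Finset.exists_max_image (Finset.univ.filter fun l => t l ≠ 0) d
    ⟨i₀, by simpa using hi₀⟩
  have hti : t i ≠ 0 := (Finset.mem_filter.mp hi).2
  have hdi : ∀ l, t l ≠ 0 → d l ≤ d i := fun l hl => hmax l (by simpa using hl)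
  let e : Fin n → ℕ := fun l => d i - d l
  have hei : e i = 0 := Nat.sub_self _
  let G : Fin m → Fin n → (ℕ →₀ K) := subF p i e t F
  have hG : NoLine p G := noLine_subF p i e t hei hti F hF
  have hG0 : ∀ j k, d i ≤ k → G j i k = 0 := fun j k hk => subF_apply_eq_zero p hp i d t hdi F hd h0 j k hk
  have hdpos : 0 < d i := by
    by_contra hcon
    have hd0 : d i = 0 := by omega
    have h1 := hG (Pi.single i (Finsupp.single 0 1)) fun j s => by
      refine Finset.sum_eq_zero fun l _ => ?_
      by_cases hl : l = i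
      · subst hl
        have : G j l = 0 := by
          ext k
          exact hG0 j k (by omega)
        rw [this, map_zero]
      · rw [Pi.single_eq_of_ne hl, map_zero, val_zero]
    have h2 := congrFun h1 i
    rw [Pi.single_eq_same] at h2
    have h3 := DFunLike.congr_fun h2 0
    rw [Finsupp.single_eq_same] at h3
    exact one_ne_zero h3
  have hGd : ∀ j l k, Function.update d i (d i - 1) l < k → G j l k = 0 := by
    intro j l k hk
    by_cases hl : l = i
    · subst hl
      rw [Function.update_self] at hk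
      exact hG0 j k (by omega)
    · rw [Function.update_of_ne hl] at hk
      change Function.update (F j) i _ l k = 0
      rw [Function.update_of_ne hl]
      exact hd j l k hk
  have hsum : ∑ l, Function.update d i (d i - 1) l < s := by
    rw [← hs]
    refine Finset.sum_lt_sum (fun l _ => ?_) ⟨i, Finset.mem_univ _, ?_⟩
    · by_cases hl : l = i
      · subst hl
        rw [Function.update_self]
        omega
      · rw [Function.update_of_ne hl]
    · rw [Function.update_self]
      omega
  obtain ⟨M₁, hM₁⟩ := ih _ hsum G _ rfl hGd hG M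
  obtain ⟨A, hA⟩ : ∃ A, ∀ l, Bd π A (t l) := by
    choose a ha using fun l => exists_bd (R := R) hπ (t l)
    exact ⟨∑ l, a l, fun l => (ha l).mono
      (Finset.single_le_sum (f := a) (fun _ _ => Nat.zero_le _) (Finset.mem_univ l))⟩
  refine ⟨M₁ + (A + M₁ * p ^ d i), fun x hx => ?_⟩
  -- the inverse substitution
  let y : Fin n → K := fun l => if l = i then x i / t i else x l - t l * (x i / t i) ^ p ^ e l
  have hyi : y i = x i / t i := if_pos rfl
  have hxy : ∀ l, sub p i e t y l = x l := by
    intro l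
    rw [sub, hyi]
    by_cases hl : l = i
    · subst hl
      rw [if_pos rfl, hei, pow_zero, pow_one, zero_add, mul_div_cancel₀ _ hti]
    · rw [if_neg hl]
      change (if l = i then _ else _) + _ = _
      rw [if_neg hl, sub_add_cancel]
  have hy := hM₁ y fun j => by
    have h1 := hx j
    rw [sum_subF]
    simpa only [hxy] using h1
  intro l
  rw [← hxy l, sub]
  refine Bd.add ?_ ?_
  · split_ifs
    · exact Bd.zero
    · exact (hy l).mono (by omega)
  · refine ((hA l).mul ((hy i).pow (p ^ e l))).mono ?_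
    have h2 : p ^ e l ≤ p ^ d i := Nat.pow_le_pow_right hp (Nat.sub_le _ _)
    have h3 : M₁ * p ^ e l ≤ M₁ * p ^ d i := Nat.mul_le_mul le_rfl h2
    omega

end main

/-- (ANA) Bounded values of an additive polynomial system without lines come from bounded vectors. -/
theorem bounded_of_noLine (R K : Type u) [CommRing R] [IsDomain R] [IsDiscreteValuationRing R] [HenselianLocalRing R]
    (hR : CAlg.IsGRing R) [Field K] [Algebra R K] [IsFractionRing R K] (p : ℕ) [Fact p.Prime] [CharP K p] {π : R}
    (hπ : Irreducible π) {m n : ℕ} (F : Fin m → Fin n → (ℕ →₀ K))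
    (hF : ∀ φ : Fin n → (ℕ →₀ K), (∀ (j : Fin m) (t : K),
      addVal p (RingHom.id K) F j (fun l => (φ l).sum fun k a => a * t ^ p ^ k) = 0) → φ = 0) (M : ℕ) :
    ∃ M' : ℕ, ∀ y : Fin n → K,
      (∀ j, algebraMap R K (π ^ M) * addVal p (RingHom.id K) F j y ∈ Set.range (algebraMap R K)) →
      ∀ l, algebraMap R K (π ^ M') * y l ∈ Set.range (algebraMap R K) := by
  have hF' : NoLine p F := fun φ hφ => hF φ fun j t => by
    rw [addVal_eq, ← hφ j t]
    simp only [val_apply]
  obtain ⟨d, hd⟩ : ∃ d : Fin n → ℕ, ∀ j l k, d l < k → F j l k = 0 := by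
    refine ⟨fun l => ∑ j, (F j l).support.sup id, fun j l k hk => ?_⟩
    change ∑ j, (F j l).support.sup id < k at hk
    by_contra hcon
    have h1 : k ≤ (F j l).support.sup id := Finset.le_sup (f := id) (Finsupp.mem_support_iff.mpr hcon)
    have h2 : (F j l).support.sup id ≤ ∑ j, (F j l).support.sup id :=
      Finset.single_le_sum (f := fun j => (F j l).support.sup id) (fun _ _ => Nat.zero_le _) (Finset.mem_univ j)
    omega
  obtain ⟨M', hM'⟩ := bounded (p := p) hR hπ _ F d rfl hd hF' M
  refine ⟨M', fun y hy => hM' y fun j => ?_⟩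
  have := hy j
  rw [addVal_eq] at this
  exact this

end K127.PAna
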